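import Cfsg.Agent.H233.Core
import Cfsg.Agent.Lib.GenFitting
import Cfsg.Agent.SignalizersComponents.CompOrbit
set_option linter.all false

/-!
# Groups with a strongly `p`-embedded subgroup: `F*` is simple; passage to `G / O_{p'}(G)`

* `exists_component` : if `O_{p'}(G) = 1` and `G` has a strongly `p`-embedded subgroup, then `F*(G) = K` for the unique
  component `K` of `G`, and `K` is simple;
* `map_quotient` : the image of a strongly `p`-embedded subgroup in `G / N`, `N` a normal `p'`-subgroup, is strongly
  `p`-embedded if it is proper.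
-/

set_option autoImplicit false

namespace Cfsg.Agent.H233.Simple

open Cfsg Subgroup Cfsg.Agent.EvenType.StrongP Cfsg.Agent.H233.Core
open Cfsg.Agent.SignalizersComponents.Components

variable {G : Type*} [Group G] [Finite G] {p : ℕ} [hp : Fact p.Prime]

/-- `O_p(G) = 1` if `G` has a strongly `p`-embedded subgroup. -/
theorem pCore_eq_bot {H : Subgroup G} (hH : IsStronglyPEmbedded p H) : pCore p G = ⊥ := by
  obtain ⟨hd, hne, P, hP⟩ := id hH
  have h1 : pCore p G ≤ H := (Lib.Cores.pCore_le_sylow P).trans (sylow_le hd hP)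
  have h2 := not_dvd_card_of_normal_le hH h1
  by_contra h3
  apply h2
  have h4 : IsPGroup p (pCore p G) := Lib.Cores.pCore_isPGroup p
  obtain ⟨n, hn⟩ := IsPGroup.iff_card.1 h4
  have h5 : Nontrivial (pCore p G) := (nontrivial_iff_ne_bot _).2 h3
  have h6 : 1 < Nat.card (pCore p G) := Finite.one_lt_card
  rw [hn] at h6 ⊢
  cases n with
  | zero => simp at h6
  | succ n => exact Dvd.intro_left _ rfl

theorem fitting_eq_bot {H : Subgroup G} (hH : IsStronglyPEmbedded p H) (hO : pPrimeCore p G = ⊥) :
    fittingSubgroup G = ⊥ := by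
  have h1 := SignalizersComponents.CompOrbit.fittingSubgroup_le_pCore (p := p) hO
  rw [pCore_eq_bot hH] at h1
  exact le_bot_iff.1 h1

theorem layer_eq {H : Subgroup G} (hH : IsStronglyPEmbedded p H) (hO : pPrimeCore p G = ⊥) :
    generalizedFittingSubgroup G = layer G := by
  rw [Lib.GenFitting.genFitting_def, fitting_eq_bot hH hO, sup_bot_eq]

/-- a component has order divisible by `p` -/
theorem dvd_card_component (hO : pPrimeCore p G = ⊥) {K : Subgroup G} (hK : IsComponent K) :
    p ∣ Nat.card K := by
  by_contra h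
  have h1 := SignalizersComponents.CompBasic.subnormal_coprime_le_pPrimeCore (p := p) hK.1 (coprime_of_not_dvd h)
  rw [hO, le_bot_iff] at h1
  exact component_ne_bot hK h1

/-- conjugates of strongly `p`-embedded subgroups -/
theorem conj {H : Subgroup G} (hH : IsStronglyPEmbedded p H) (g : G) :
    IsStronglyPEmbedded p (H.map (MulAut.conj g).toMonoidHom) := by
  apply of_normIn
  · rw [Subgroup.card_map_of_injective (MulAut.conj g).injective]
    exact dvd_card hH
  · intro h
    apply hH.2.1
    have h1 := congrArg (fun K : Subgroup G => K.map (MulAut.conj g⁻¹).toMonoidHom) h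
    simp only [← map_conj_mul, inv_mul_cancel, map_conj_one] at h1
    rw [h1]
    exact Subgroup.map_top_of_surjective _ (MulAut.conj g⁻¹).surjective
  · exact (normIn hH).conj g

/-- every element of order `p` lies in a conjugate of `H` -/
theorem exists_conj_mem {H : Subgroup G} (hH : IsStronglyPEmbedded p H) {x : G} (hx : x ^ p = 1) :
    ∃ g : G, x ∈ H.map (MulAut.conj g).toMonoidHom := by
  obtain ⟨hd, hne, P, hP⟩ := id hH
  have hPH := sylow_le hd hP
  have h1 : IsPGroup p (zpowers x) := by
    rintro ⟨y, k, rfl⟩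
    refine ⟨1, Subtype.ext ?_⟩
    change (x ^ k) ^ p ^ 1 = 1
    rw [pow_one, ← zpow_natCast, ← zpow_mul, mul_comm, zpow_mul, zpow_natCast, hx, one_zpow]
  obtain ⟨Q, hQ⟩ := h1.exists_le_sylow
  obtain ⟨g, hg⟩ := MulAction.exists_smul_eq G P Q
  refine ⟨g, ?_⟩
  have h2 : x ∈ (Q : Subgroup G) := hQ (mem_zpowers x)
  rw [← hg, Sylow.coe_subgroup_smul] at h2
  obtain ⟨y, hy, hyx⟩ := h2
  exact ⟨y, hPH hy, hyx⟩

/-- **Uniqueness of the component.** -/
theorem component_unique {H : Subgroup G} (hH : IsStronglyPEmbedded p H) (hO : pPrimeCore p G = ⊥)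
    {K L : Subgroup G} (hK : IsComponent K) (hL : IsComponent L) : K = L := by
  by_contra hne
  obtain ⟨x, hx⟩ := exists_prime_orderOf_dvd_card' (G := L) p (dvd_card_component hO hL)
  have hxp : (x : G) ^ p = 1 := by
    have : x ^ p = 1 := hx ▸ pow_orderOf_eq_one x
    rw [← Subgroup.coe_pow, this, Subgroup.coe_one]
  have hx1 : (x : G) ≠ 1 := by
    intro h
    have : x = 1 := Subtype.ext h
    rw [this, orderOf_one] at hx
    exact hp.out.one_lt.ne hx
  obtain ⟨g, hg⟩ := exists_conj_mem hH hxp
  have hM := conj hH g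
  obtain ⟨M, hMdef⟩ : ∃ M : Subgroup G, M = H.map (MulAut.conj g).toMonoidHom := ⟨_, rfl⟩
  rw [← hMdef] at hM hg
  have hN := normIn hM
  have h1 : ∀ J : Subgroup G, IsComponent J → J ≠ L → J ≤ M := by
    intro J hJ hJL
    refine le_trans ?_ (centralizer_le hN hg hxp hx1)
    refine (component_le_centralizer_of_ne hJ hL hJL).trans ?_
    apply Subgroup.centralizer_le
    rw [Set.singleton_subset_iff]
    exact x.2
  have hKM := h1 K hK hne
  obtain ⟨y, hy⟩ := exists_prime_orderOf_dvd_card' (G := K) p (dvd_card_component hO hK)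
  have hyp : (y : G) ^ p = 1 := by
    have : y ^ p = 1 := hy ▸ pow_orderOf_eq_one y
    rw [← Subgroup.coe_pow, this, Subgroup.coe_one]
  have hy1 : (y : G) ≠ 1 := by
    intro h
    have : y = 1 := Subtype.ext h
    rw [this, orderOf_one] at hy
    exact hp.out.one_lt.ne hy
  have hLM : L ≤ M := by
    refine le_trans ?_ (centralizer_le hN (hKM y.2) hyp hy1)
    refine (component_le_centralizer_of_ne hL hK (Ne.symm hne)).trans ?_
    apply Subgroup.centralizer_le
    rw [Set.singleton_subset_iff]
    exact y.2
  have hlay : layer G ≤ M := by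
    rw [layer_le_iff]
    intro J hJ
    by_cases hJL : J = L
    · rw [hJL]; exact hLM
    · exact h1 J hJ hJL
  have hlayn : (layer G).Normal := layer_normal G
  apply not_dvd_card_of_normal_le hM hlay
  exact (dvd_card_component hO hK).trans (card_dvd_of_le (component_le_layer hK))

/-- there is a component -/
theorem exists_component {H : Subgroup G} (hH : IsStronglyPEmbedded p H) (hO : pPrimeCore p G = ⊥) :
    ∃ K : Subgroup G, IsComponent K := by
  by_contra hc
  push Not at hc
  have h1 : layer G = ⊥ := by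
    rw [← le_bot_iff, layer_le_iff]
    intro K hK
    exact absurd hK (hc K)
  have h2 := Lib.GenFitting.centralizer_genFitting_le (G := G)
  rw [layer_eq hH hO, h1] at h2
  have h3 : (⊤ : Subgroup G) ≤ ⊥ := by
    refine le_trans ?_ h2
    intro g _
    rw [mem_centralizer_iff]
    intro x hx
    rw [SetLike.mem_coe, mem_bot] at hx
    rw [hx, one_mul, mul_one]
  have h4 : Nat.card G = 1 := by
    rw [← Subgroup.card_top, le_bot_iff.1 h3, Subgroup.card_bot]
  have h5 := hH.1
  rw [h4, Nat.dvd_one] at h5
  exact hp.out.one_lt.ne' h5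

/-- `F*(G)` is a component. -/
theorem isComponent_genFitting {H : Subgroup G} (hH : IsStronglyPEmbedded p H) (hO : pPrimeCore p G = ⊥) :
    IsComponent (generalizedFittingSubgroup G) := by
  obtain ⟨K, hK⟩ := exists_component hH hO
  have h1 : layer G = K := by
    apply le_antisymm
    · rw [layer_le_iff]
      intro J hJ
      rw [component_unique hH hO hJ hK]
    · exact component_le_layer hK
  rw [layer_eq hH hO, h1]
  exact hK

/-- **`F*(G)` is simple.** -/
theorem simple_genFitting {H : Subgroup G} (hH : IsStronglyPEmbedded p H) (hO : pPrimeCore p G = ⊥) :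
    IsSimpleGroup ↥(generalizedFittingSubgroup G) ∧ ¬ IsMulCommutative ↥(generalizedFittingSubgroup G) := by
  have hK := isComponent_genFitting hH hO
  refine ⟨?_, quasisimple_not_isMulCommutative hK.2⟩
  have hnorm : (generalizedFittingSubgroup G).Normal := Lib.GenFitting.genFitting_normal
  have hcen : center ↥(generalizedFittingSubgroup G) = ⊥ := by
    have h1 := SignalizersComponents.CompOrbit.inf_centralizer_self_le_pCore (p := p) hO hnorm
    rw [pCore_eq_bot hH, le_bot_iff] at h1
    rw [eq_bot_iff]
    intro x hx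
    rw [mem_bot]
    have h2 : (x : G) ∈ generalizedFittingSubgroup G ⊓ centralizer (generalizedFittingSubgroup G : Set G) := by
      refine ⟨x.2, ?_⟩
      change (x : G) ∈ centralizer (generalizedFittingSubgroup G : Set G)
      rw [mem_centralizer_iff]
      intro y hy
      exact congrArg Subtype.val (mem_center_iff.1 hx ⟨y, hy⟩)
    rw [h1, mem_bot] at h2
    exact Subtype.ext h2
  have h3 := hK.2.2
  have e : ↥(generalizedFittingSubgroup G) ⧸ center ↥(generalizedFittingSubgroup G) ≃* ↥(generalizedFittingSubgroup G) :=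
    (QuotientGroup.quotientMulEquivOfEq hcen).trans QuotientGroup.quotientBot
  have : Nontrivial ↥(generalizedFittingSubgroup G) := quasisimple_nontrivial hK.2
  exact IsSimpleGroup.isSimpleGroup_of_surjective e.toMonoidHom e.surjective

omit [Finite G] hp in
/-- proper overgroups of strongly `p`-embedded subgroups are strongly `p`-embedded -/
theorem mono {H M : Subgroup G} (hH : IsStronglyPEmbedded p H) (hHM : H ≤ M) (hM : M ≠ ⊤) :
    IsStronglyPEmbedded p M := by
  obtain ⟨h1, _, P, hP⟩ := hH
  exact ⟨h1, hM, P, hP.trans hHM⟩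

/-- The image in `G / N` (`N` a normal `p'`-subgroup) of a strongly `p`-embedded subgroup containing `N` -/
theorem map_quotient_of_le {H : Subgroup G} (hH : IsStronglyPEmbedded p H) (N : Subgroup G) [hNn : N.Normal]
    (hN : ¬ p ∣ Nat.card N) (hNH : N ≤ H) :
    IsStronglyPEmbedded p (H.map (QuotientGroup.mk' N)) := by
  have hmem : ∀ x : G, QuotientGroup.mk' N x ∈ H.map (QuotientGroup.mk' N) ↔ x ∈ H := by
    intro x
    constructor
    · rintro ⟨y, hy, hyx⟩
      have h1 : y⁻¹ * x ∈ N := QuotientGroup.eq.1 hyx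
      have h2 := H.mul_mem hy (hNH h1)
      rwa [mul_inv_cancel_left] at h2
    · intro hx
      exact ⟨x, hx, rfl⟩
  apply of_inter
  · obtain ⟨x, hx⟩ := exists_prime_orderOf_dvd_card' (G := H) p (dvd_card hH)
    have hxp : (x : G) ^ p = 1 := by
      have : x ^ p = 1 := hx ▸ pow_orderOf_eq_one x
      rw [← Subgroup.coe_pow, this, Subgroup.coe_one]
    have h1 : orderOf (⟨QuotientGroup.mk' N (x : G), (hmem x).2 x.2⟩ : H.map (QuotientGroup.mk' N)) = p := by
      apply orderOf_eq_prime
      · apply Subtype.ext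
        rw [Subgroup.coe_pow, Subgroup.coe_one, ← map_pow, hxp, map_one]
      · intro h
        have h2 : QuotientGroup.mk' N (x : G) = 1 := congrArg Subtype.val h
        rw [QuotientGroup.mk'_apply, QuotientGroup.eq_one_iff] at h2
        apply hN
        have h3 := orderOf_dvd_natCard (⟨(x : G), h2⟩ : N)
        rw [Subgroup.orderOf_mk, Subgroup.orderOf_coe, hx] at h3
        exact h3
    rw [← h1]
    exact orderOf_dvd_natCard _
  · intro h
    apply hH.2.1
    rw [eq_top_iff]
    intro x _
    rw [← hmem, h]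
    exact mem_top _
  · intro g' hg'
    obtain ⟨g, rfl⟩ := QuotientGroup.mk'_surjective N g'
    rw [hmem] at hg'
    intro hd
    apply inter hH hg'
    refine (hd.trans (card_dvd_of_le (K := (H ⊓ H.map (MulAut.conj g).toMonoidHom).map (QuotientGroup.mk' N)) ?_)).trans
      (Subgroup.card_map_dvd _ _)
    intro y' hy'
    obtain ⟨y, rfl⟩ := QuotientGroup.mk'_surjective N y'
    refine ⟨y, ⟨(hmem y).1 hy'.1, ?_⟩, rfl⟩
    have h2 : QuotientGroup.mk' N y ∈ (H.map (QuotientGroup.mk' N)).map
      (MulAut.conj (QuotientGroup.mk' N g)).toMonoidHom := hy'.2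
    rw [mem_map_conj, ← map_inv, ← map_mul, ← map_mul, hmem] at h2
    exact mem_map_conj.2 h2

/-- The image in `G / N` (`N` a normal `p'`-subgroup) of a strongly `p`-embedded subgroup is strongly `p`-embedded
if it is proper. -/
theorem map_quotient {H : Subgroup G} (hH : IsStronglyPEmbedded p H) (N : Subgroup G) [hNn : N.Normal]
    (hN : ¬ p ∣ Nat.card N) (hne : H ⊔ N ≠ ⊤) :
    IsStronglyPEmbedded p (H.map (QuotientGroup.mk' N)) := by
  have h1 := map_quotient_of_le (mono hH le_sup_left hne) N hN le_sup_right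
  have h2 : (H ⊔ N).map (QuotientGroup.mk' N) = H.map (QuotientGroup.mk' N) := by
    rw [Subgroup.map_sup, QuotientGroup.map_mk'_self, sup_bot_eq]
  rwa [h2] at h1

end Cfsg.Agent.H233.Simple
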