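import Cfsg.Agent.EvenType.StrongP
import Cfsg.Agent.S0058
set_option linter.all false

/-!
# Strongly `p`-embedded subgroups: normal subgroups

* `not_dvd_card_of_normal_le` : a normal subgroup of `G` contained in a strongly `p`-embedded subgroup is a `p'`-group;
* `le_of_normal_coprime` : a normal `p'`-subgroup is contained in a strongly `p`-embedded subgroup of `p`-rank `≥ 2`.
-/

set_option autoImplicit false

namespace Cfsg.Agent.H233.Core

open Cfsg Subgroup Cfsg.Agent.EvenType.StrongP

variable {G : Type*} [Group G] [Finite G] {p : ℕ} [hp : Fact p.Prime]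

omit [Finite G] in
/-- The `p'`-core contains every normal subgroup of order prime to `p`. -/
theorem le_pPrimeCore {N : Subgroup G} (hN : N.Normal) (h : (Nat.card N).Coprime p) : N ≤ pPrimeCore p G :=
  le_sSup ⟨hN, h⟩

theorem coprime_of_not_dvd {n : ℕ} (h : ¬ p ∣ n) : n.Coprime p :=
  ((Nat.Prime.coprime_iff_not_dvd hp.out).2 h).symm

/-- A normal subgroup of `G` inside a strongly `p`-embedded subgroup has order prime to `p`. -/
theorem not_dvd_card_of_normal_le {H : Subgroup G} (hH : IsStronglyPEmbedded p H) {N : Subgroup G}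
    [hN : N.Normal] (hNH : N ≤ H) : ¬ p ∣ Nat.card N := by
  intro hd
  obtain ⟨g, hg⟩ : ∃ g : G, g ∉ H := by
    by_contra hc
    push Not at hc
    exact hH.2.1 (eq_top_iff.2 fun x _ => hc x)
  apply inter hH hg
  refine hd.trans (card_dvd_of_le (le_inf hNH ?_))
  intro x hx
  rw [mem_map_conj]
  apply hNH
  have := hN.conj_mem x hx g⁻¹
  rwa [inv_inv] at this

/-- The Sylow `p`-subgroups of a strongly `p`-embedded subgroup have the order of those of `G`. -/
theorem card_sylow {H : Subgroup G} (hH : IsStronglyPEmbedded p H) (S : Sylow p ↥H) (P : Sylow p G) :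
    Nat.card S = Nat.card P := by
  obtain ⟨Q, hQ⟩ := (normIn hH).sylow (dvd_card hH) S
  have h1 : Nat.card ↥(Q : Subgroup G) = Nat.card ↥(S : Subgroup ↥H) := by
    rw [hQ, Subgroup.card_map_of_injective (Subgroup.subtype_injective _)]
  have h2 : Nat.card ↥(Q : Subgroup G) = Nat.card ↥(P : Subgroup G) := by
    rw [Sylow.card_eq_multiplicity Q, Sylow.card_eq_multiplicity P]
  exact h1.symm.trans h2

omit [Finite G] in
/-- A commutative subgroup of exponent `p` and order at least `p ^ 2` is not cyclic. -/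
theorem not_isCyclic {A : Subgroup G} (hexp : ∀ a ∈ A, a ^ p = 1) (hA : p ^ 2 ≤ Nat.card A) : ¬ IsCyclic A := by
  intro hc
  obtain ⟨⟨g, hg⟩, hgen⟩ := hc.exists_generator
  have h1 : Nat.card A = orderOf (⟨g, hg⟩ : A) := by
    rw [← Nat.card_zpowers]
    have : zpowers (⟨g, hg⟩ : A) = ⊤ := eq_top_iff.2 fun x _ => hgen x
    rw [this, Subgroup.card_top]
  have h2 : orderOf (⟨g, hg⟩ : A) ∣ p := orderOf_dvd_of_pow_eq_one (Subtype.ext (hexp g hg))
  have h3 := Nat.le_of_dvd hp.out.pos h2
  have h4 : p < p ^ 2 := by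
    have := hp.out.one_lt
    nlinarith
  omega

/-- The order of a commutative subgroup of exponent `p` is a power of `p`. -/
theorem card_eq_pow {A : Subgroup G} (hexp : ∀ a ∈ A, a ^ p = 1) : ∃ n : ℕ, Nat.card A = p ^ n := by
  have hA : IsPGroup p A := fun a => ⟨1, Subtype.ext (by rw [pow_one]; exact hexp a a.2)⟩
  exact IsPGroup.iff_card.1 hA

/-- Elements of order `p` of `H` have their centralizer in `H`. -/
theorem centralizer_le {H : Subgroup G} (hN : NormIn p H) {a : G} (ha : a ∈ H) (hap : a ^ p = 1) (ha1 : a ≠ 1) :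
    centralizer ({a} : Set G) ≤ H := by
  have h1 : centralizer ({a} : Set G) ≤ normalizer ((zpowers a : Subgroup G) : Set G) := by
    intro g hg
    apply Subgroup.centralizer_le_normalizer
    rw [zpowers_eq_closure, centralizer_closure]
    exact hg
  refine h1.trans (hN _ ?_ (zpowers_le.2 ha) ?_)
  · rintro ⟨y, k, rfl⟩
    refine ⟨1, Subtype.ext ?_⟩
    change (a ^ k) ^ p ^ 1 = 1
    rw [pow_one, ← zpow_natCast, ← zpow_mul, mul_comm, zpow_mul, zpow_natCast, hap, one_zpow]
  · rw [Ne, zpowers_eq_bot]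
    exact ha1

/-- A normal `p'`-subgroup is contained in a strongly `p`-embedded subgroup of `p`-rank at least `2`. -/
theorem le_of_normal_coprime {H : Subgroup G} (hN : NormIn p H) (hr : PRankAtLeast p 2 ↥H)
    {K : Subgroup G} (hK : K.Normal) (hc : (Nat.card K).Coprime p) : K ≤ H := by
  obtain ⟨A, hAc, hexp, hcard⟩ := hr
  set B : Subgroup G := A.map H.subtype with hB
  have hBH : B ≤ H := map_subtype_le _
  have hBexp : ∀ b ∈ B, b ^ p = 1 := by
    rintro _ ⟨a, ha, rfl⟩
    have := hexp a ha
    rw [← map_pow, this, map_one]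
  have hBcard : Nat.card B = Nat.card A := Subgroup.card_map_of_injective H.subtype_injective
  have hBc : IsMulCommutative B := by
    constructor
    constructor
    rintro ⟨_, a, ha, rfl⟩ ⟨_, b, hb, rfl⟩
    have h1 : (⟨a, ha⟩ : A) * ⟨b, hb⟩ = ⟨b, hb⟩ * ⟨a, ha⟩ := hAc.is_comm.comm _ _
    have h2 : a * b = b * a := congrArg Subtype.val h1
    exact Subtype.ext (by
      change H.subtype a * H.subtype b = H.subtype b * H.subtype a
      rw [← map_mul, h2, map_mul])
  have hncyc : ¬ IsCyclic B := not_isCyclic hBexp (by rw [hBcard]; exact hcard)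
  have hnorm : B ≤ normalizer (K : Set G) := by
    rw [Subgroup.normalizer_eq_top]; exact le_top
  have hcop : (Nat.card B).Coprime (Nat.card K) := by
    obtain ⟨n, hn⟩ := card_eq_pow hBexp
    rw [hn]
    exact Nat.Coprime.pow_left n hc.symm
  rw [← Cfsg.Agent.S0058.result B K hncyc hnorm hcop]
  refine iSup₂_le (fun a ha => inf_le_right.trans ?_)
  exact centralizer_le hN (hBH ha.1) (hBexp a ha.1) ha.2

end Cfsg.Agent.H233.Core
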